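import Cfsg.Agent.S1946
import Cfsg.Agent.Lib.Transfer.Tate
import Cfsg.Agent.Lib.PGroups.AlperinTame
import Cfsg.Agent.Lib.PGroups.Frattini
import Cfsg.Agent.Lib.CoprimeAction.Basic

/-!
Subgroups of a fixed order which are strongly closed in their normalizers (`ℋ`-subgroups) and
normal `p`-complements for the smallest prime.
-/

set_option autoImplicit false
set_option linter.style.haveILetI false

open scoped commutatorElement

namespace CfsgLib.Transfer.HSub

open Cfsg

variable {G : Type*} [Group G] [Finite G] {p : ℕ} [hp : Fact p.Prime]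

omit [Finite G] in
theorem coprime_pred (hmin : ∀ q : ℕ, q.Prime → q ∣ Nat.card G → p ≤ q) {a : G} :
    (orderOf a).Coprime (p - 1) := by
  refine Nat.coprime_of_dvd fun q hq h1 h2 => ?_
  have := hmin q hq (h1.trans (orderOf_dvd_natCard a))
  have := hp.out.two_le
  have := Nat.le_of_dvd (by omega) h2
  omega

/-- An element of order prime to `p (p - 1)` centralizes the cyclic `p`-subgroups it normalizes. -/
theorem commute_of_cyclic {X : Type*} [Group X] [Finite X] {V : Subgroup X} [IsCyclic V]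
    (hV : IsPGroup p V) {a : X} (ha : a ∈ Subgroup.normalizer (V : Set X))
    (hcp : (orderOf a).Coprime p) (hcp1 : (orderOf a).Coprime (p - 1)) :
    ∀ v ∈ V, a * v = v * a := by
  intro v hv
  obtain ⟨k, hk⟩ := IsPGroup.iff_card.1 hV
  have h : orderOf (Subgroup.normalizerMonoidHom V ⟨a, ha⟩) ∣ Nat.totient (p ^ k) := by
    rw [← hk, ← IsCyclic.card_mulAut]
    exact orderOf_dvd_natCard _
  have h' : orderOf (Subgroup.normalizerMonoidHom V ⟨a, ha⟩) ∣ orderOf a := by
    rw [← Subgroup.orderOf_mk a ha]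
    exact orderOf_map_dvd _ _
  have hcop : (orderOf a).Coprime (Nat.totient (p ^ k)) := by
    rcases Nat.eq_zero_or_pos k with rfl | hk0
    · simp
    · rw [Nat.totient_prime_pow hp.out hk0]
      exact (hcp.pow_right _).mul_right hcp1
  have h1 : Subgroup.normalizerMonoidHom V ⟨a, ha⟩ = 1 :=
    orderOf_eq_one_iff.1 (Nat.eq_one_of_dvd_coprimes hcop h' h)
  have h2 := congrArg (fun f : MulAut V => ((f ⟨v, hv⟩ : V) : X)) h1
  exact mul_inv_eq_iff_eq_mul.1 (h2 : a * v * a⁻¹ = v)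

/-- An element of order prime to `p (p - 1)` acts trivially on a normalized cyclic section. -/
theorem inv_mul_conj_mem {M K : Subgroup G} (hKM : K ≤ M) (hMK : M ≤ Subgroup.normalizer (K : Set G))
    (hM : IsPGroup p M) {q a : G} (hq : q ∈ M) (hgen : M ≤ K ⊔ Subgroup.zpowers q)
    (haM : a ∈ Subgroup.normalizer (M : Set G)) (haK : a ∈ Subgroup.normalizer (K : Set G))
    (hcp : (orderOf a).Coprime p) (hcp1 : (orderOf a).Coprime (p - 1)) {r : G} (hr : r ∈ M) :
    r⁻¹ * (a * r * a⁻¹) ∈ K := by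
  let J := Subgroup.normalizer (K : Set G)
  haveI : (K.subgroupOf J).Normal := Subgroup.normal_in_normalizer
  let π := QuotientGroup.mk' (K.subgroupOf J)
  let V : Subgroup (J ⧸ K.subgroupOf J) := (M.subgroupOf J).map π
  have hVz : V = Subgroup.zpowers (π ⟨q, hMK hq⟩) := by
    refine le_antisymm ?_ (Subgroup.zpowers_le.2 ⟨_, hq, rfl⟩)
    rintro _ ⟨u, hu, rfl⟩
    have hu' : (u : G) ∈ K ⊔ Subgroup.zpowers q := hgen hu
    rw [← SetLike.mem_coe, Subgroup.coe_mul_of_right_le_normalizer_left K _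
      (Subgroup.zpowers_le.2 (hMK hq))] at hu'
    obtain ⟨k, hk, z, ⟨i, rfl⟩, hkz⟩ := hu'
    refine ⟨i, ?_⟩
    show π ⟨q, hMK hq⟩ ^ i = π u
    rw [← map_zpow]
    refine (QuotientGroup.eq).2 ?_
    show (((⟨q, hMK hq⟩ : J) ^ i)⁻¹ * u : J).1 ∈ K
    simp only [Subgroup.coe_mul, Subgroup.coe_inv, SubgroupClass.coe_zpow]
    have := (Subgroup.mem_normalizer_iff.1 (zpow_mem (inv_mem (hMK hq)) i) k).1 hk
    rw [← hkz]
    simpa [mul_assoc] using this
  haveI : IsCyclic V := by rw [hVz]; infer_instance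
  have hVp : IsPGroup p V := (hM.comap_of_injective _ J.subtype_injective).map π
  have haJ : π ⟨a, haK⟩ ∈ Subgroup.normalizer (V : Set (J ⧸ K.subgroupOf J)) :=
    Subgroup.le_normalizer_map π ⟨⟨a, haK⟩, Subgroup.mem_normalizer_iff.2 fun u =>
      Subgroup.mem_normalizer_iff.1 haM (u : G), rfl⟩
  have hdvd : orderOf (π ⟨a, haK⟩) ∣ orderOf a := by
    rw [← Subgroup.orderOf_mk a haK]; exact orderOf_map_dvd _ _
  have h := commute_of_cyclic hVp haJ (hcp.coprime_dvd_left hdvd) (hcp1.coprime_dvd_left hdvd)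
    (π ⟨r, hMK hr⟩) ⟨_, hr, rfl⟩
  rw [← map_mul, ← map_mul] at h
  have h' : (r * a)⁻¹ * (a * r) ∈ K := (QuotientGroup.eq.1 h.symm : _ ∈ K.subgroupOf J)
  have := (Subgroup.mem_normalizer_iff.1 haK _).1 h'
  rwa [show a * ((r * a)⁻¹ * (a * r)) * a⁻¹ = r⁻¹ * (a * r * a⁻¹) * 1 by group, mul_one] at this

/-- A subgroup strongly closed in its normalizer is normalized by every `p`-subgroup containing
it. -/
theorem le_normalizer_of_hsubgroup {E : Subgroup G}
    (hE : ∀ g : G, E.map (MulAut.conj g).toMonoidHom ⊓ Subgroup.normalizer (E : Set G) ≤ E)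
    {R : Subgroup G} (hER : E ≤ R) (hR : IsPGroup p R) : R ≤ Subgroup.normalizer (E : Set G) := by
  by_contra hne
  have := hR.isNilpotent
  let N1 : Subgroup R := (Subgroup.normalizer (E : Set G)).subgroupOf R
  have hlt : N1 < ⊤ := lt_top_iff_ne_top.2 fun h => hne (Subgroup.subgroupOf_eq_top.1 h)
  obtain ⟨r, hr, hrn⟩ :=
    SetLike.exists_of_lt (Group.normalizerCondition_of_isNilpotent _ hlt)
  refine hrn (Subgroup.mem_subgroupOf.2 ?_)
  refine Subgroup.mem_normalizer_iff_map_conj_eq.2 (Subgroup.eq_of_le_of_card_ge ?_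
    (Subgroup.card_map_of_injective (MulAut.conj (r : G)).injective).ge)
  rintro x hx
  refine hE r ⟨hx, ?_⟩
  obtain ⟨e, he, rfl⟩ := hx
  exact (Subgroup.mem_normalizer_iff.1 hr ⟨e, hER he⟩).1
    (show (⟨e, hER he⟩ : R) ∈ N1 from Subgroup.le_normalizer he)

/-- The hypothesis: all subgroups of order `d` (and of order `4` if `d = 2`) of `P` are strongly
closed in their normalizers. -/
def Hyp (P : Subgroup G) (d : ℕ) : Prop :=
  ∀ E : Subgroup G, E ≤ P → (Nat.card E = d ∨ (d = 2 ∧ Nat.card E = 4)) →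
    ∀ g : G, E.map (MulAut.conj g).toMonoidHom ⊓ Subgroup.normalizer (E : Set G) ≤ E

variable {P : Subgroup G} {d : ℕ}

theorem Hyp.mem_of_conj (hH : Hyp P d) (hP : IsPGroup p P) {E : Subgroup G} (hEP : E ≤ P)
    (hE : Nat.card E = d ∨ (d = 2 ∧ Nat.card E = 4)) {g x : G} (hx : x ∈ E)
    (hgx : g * x * g⁻¹ ∈ P) : g * x * g⁻¹ ∈ E :=
  hH E hEP hE g ⟨⟨x, hx, rfl⟩, le_normalizer_of_hsubgroup (hH E hEP hE) hEP hP hgx⟩

theorem Hyp.mem_normalizer_inf (hH : Hyp P d) (hP : IsPGroup p P) {E Q : Subgroup G} (hEP : E ≤ P)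
    (hQP : Q ≤ P) (hE : Nat.card E = d ∨ (d = 2 ∧ Nat.card E = 4)) {a : G}
    (ha : a ∈ Subgroup.normalizer (Q : Set G)) :
    a ∈ Subgroup.normalizer ((Q ⊓ E : Subgroup G) : Set G) := by
  refine CfsgLib.CoprimeAction.mem_normalizer_of_conj_mem fun x hx => ?_
  have hQ := (Subgroup.mem_normalizer_iff.1 ha x).1 hx.1
  exact ⟨hQ, hH.mem_of_conj hP hEP hE hx.2 (hQP hQ)⟩

/-- The `p'`-elements normalizing a subgroup of order larger than `d` centralize it. -/
theorem Hyp.commute_of_lt (hH : Hyp P d) (hP : IsPGroup p P)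
    (hmin : ∀ q : ℕ, q.Prime → q ∣ Nat.card G → p ≤ q) {m : ℕ} (hd : d = p ^ m) (hm : m ≠ 0)
    {Q : Subgroup G} (hQP : Q ≤ P) (hQd : d < Nat.card Q) {a : G}
    (ha : a ∈ Subgroup.normalizer (Q : Set G)) (hcp : (orderOf a).Coprime p) :
    ∀ q ∈ Q, a * q = q * a := by
  classical
  have hcp1 := coprime_pred hmin (a := a)
  have hQp := hP.to_le hQP
  obtain ⟨n, hn⟩ := IsPGroup.iff_card.1 hQp
  have hmn : m + 1 ≤ n := by
    by_contra h
    exact absurd (Nat.pow_le_pow_right hp.out.pos (show n ≤ m by omega)) (by rw [← hn, ← hd]; omega)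
  have hnormE : ∀ E : Subgroup G, E ≤ Q → (Nat.card E = d ∨ (d = 2 ∧ Nat.card E = 4)) →
      a ∈ Subgroup.normalizer (E : Set G) := fun E hEQ hE => by
    have := hH.mem_normalizer_inf hP (hEQ.trans hQP) hQP hE ha
    rwa [inf_eq_right.2 hEQ] at this
  have hcentE : ∀ E : Subgroup G, E ≤ Q → (Nat.card E = d ∨ (d = 2 ∧ Nat.card E = 4 ∧ IsCyclic E)) →
      ∀ x ∈ E, a * x = x * a := by
    intro E hEQ hE x hx
    have hna := hnormE E hEQ (hE.imp id fun h => ⟨h.1, h.2.1⟩)
    by_cases hc : IsCyclic E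
    · exact commute_of_cyclic (hQp.to_le hEQ) hna hcp hcp1 x hx
    have hEd : Nat.card E = p ^ m := by
      rcases hE with h | ⟨-, -, h⟩
      · exact h.trans hd
      · exact absurd h hc
    obtain ⟨M', hM'c, hEM'⟩ := Sylow.exists_subgroup_card_pow_succ
      (G := Q) (p := p) (n := m) (hn ▸ pow_dvd_pow p hmn) (H := E.subgroupOf Q)
      (by rw [Nat.card_congr (Subgroup.subgroupOfEquivOfLe hEQ).toEquiv, hEd])
    let M := M'.map Q.subtype
    have hMc : Nat.card M = p ^ (m + 1) := by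
      rw [Subgroup.card_map_of_injective Q.subtype_injective, hM'c]
    have hEM : E ≤ M := fun y hy => ⟨⟨y, hEQ hy⟩, hEM' (show (⟨y, hEQ hy⟩ : Q) ∈ E.subgroupOf Q from hy), rfl⟩
    have hMQ : M ≤ Q := Subgroup.map_subtype_le _
    have hMp := hQp.to_le hMQ
    -- maximal subgroups of `M`
    have hmax : ∀ H : Subgroup M, IsCoatom H →
        a ∈ Subgroup.normalizer ((H.map M.subtype : Subgroup G) : Set G) := by
      intro H hH'
      refine hnormE _ ((Subgroup.map_subtype_le _).trans hMQ) (Or.inl ?_)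
      have hi := TwoGroups.index_eq_of_isCoatom hMp hH'
      have := H.card_mul_index
      rw [hi, hMc, pow_succ] at this
      rw [Subgroup.card_map_of_injective M.subtype_injective, hd]
      exact Nat.eq_of_mul_eq_mul_right hp.out.pos this
    have hMnc : ¬ IsCyclic M := fun h => hc (by
      exact isCyclic_of_surjective (Subgroup.subgroupOfEquivOfLe hEM).toMonoidHom
        (Subgroup.subgroupOfEquivOfLe hEM).surjective)
    have haM : a ∈ Subgroup.normalizer (M : Set G) := by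
      -- two maximal subgroups generate `M`
      have htwo : ∀ u : M, ∃ H : Subgroup M, IsCoatom H ∧ u ∈ H := by
        intro u
        rcases eq_top_or_exists_le_coatom (Subgroup.zpowers u) with h | ⟨H, hH', hu⟩
        · exact absurd (isCyclic_iff_exists_zpowers_eq_top.2 ⟨u, h⟩) hMnc
        · exact ⟨H, hH', hu (Subgroup.mem_zpowers u)⟩
      refine CfsgLib.CoprimeAction.mem_normalizer_of_conj_mem fun y hy => ?_
      obtain ⟨H, hH', hu⟩ := htwo ⟨y, hy⟩
      exact Subgroup.map_subtype_le H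
        ((Subgroup.mem_normalizer_iff.1 (hmax H hH') y).1 ⟨⟨y, hy⟩, hu, rfl⟩)
    have htriv : ∀ b ∈ Subgroup.zpowers a, ∀ k ∈ M, k⁻¹ * (b * k * b⁻¹) ∈ (frattini M).map M.subtype := by
      intro b hb k hk
      have hkb : k⁻¹ * (b * k * b⁻¹) ∈ M :=
        mul_mem (inv_mem hk) ((Subgroup.mem_normalizer_iff.1 ((Subgroup.zpowers_le.2 haM) hb) k).1 hk)
      refine ⟨⟨_, hkb⟩, ?_, rfl⟩
      simp only [SetLike.mem_coe, frattini, Order.radical, Subgroup.mem_iInf]
      intro H hH'
      haveI := TwoGroups.normal_of_isCoatom hMp hH'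
      obtain ⟨u, -, hu⟩ := SetLike.exists_of_lt hH'.lt_top
      have hdvd : orderOf b ∣ orderOf a := orderOf_dvd_of_mem_zpowers hb
      have hHle : M ≤ Subgroup.normalizer ((H.map M.subtype : Subgroup G) : Set G) := fun y hy =>
        Subgroup.le_normalizer_map M.subtype
          ⟨⟨y, hy⟩, Subgroup.normalizer_eq_top (H := H) ▸ Subgroup.mem_top _, rfl⟩
      have hgen : M ≤ H.map M.subtype ⊔ Subgroup.zpowers (u : G) := by
        have h1 : H ⊔ Subgroup.zpowers u = ⊤ :=
          hH'.2 _ (lt_of_le_of_ne le_sup_left fun e => hu (by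
            rw [e]; exact Subgroup.mem_sup_right (Subgroup.mem_zpowers u)))
        have h2 := congrArg (Subgroup.map M.subtype) h1
        rw [Subgroup.map_sup, MonoidHom.map_zpowers, ← MonoidHom.range_eq_map,
          Subgroup.range_subtype] at h2
        exact h2.ge
      have := inv_mul_conj_mem (Subgroup.map_subtype_le H) hHle hMp u.2 hgen
        ((Subgroup.zpowers_le.2 haM) hb) ((Subgroup.zpowers_le.2 (hmax H hH')) hb)
        (hcp.coprime_dvd_left hdvd) (hcp1.coprime_dvd_left hdvd) hk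
      obtain ⟨w, hw, hwe⟩ := this
      rwa [show (⟨_, hkb⟩ : M) = w from Subtype.ext hwe.symm]
    have hcop : (Nat.card (Subgroup.zpowers a)).Coprime (Nat.card (frattini M)) := by
      obtain ⟨j, hj⟩ := IsPGroup.iff_card.1 (hMp.to_subgroup (frattini M))
      rw [Nat.card_zpowers, hj]
      exact hcp.pow_right j
    have := CfsgLib.CoprimeAction.le_centralizer_of_frattini (Subgroup.zpowers_le.2 haM) hcop htriv
    exact (Subgroup.mem_centralizer_iff.1 (this (Subgroup.mem_zpowers a)) x (hEM hx)).symm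
  -- all small elements are centralized
  have hsmall : ∀ x ∈ Q, (x ^ p = 1 ∨ (p = 2 ∧ x ^ 4 = 1)) → a * x = x * a := by
    intro x hx hxs
    obtain ⟨e, he⟩ := IsPGroup.iff_orderOf.1 hQp ⟨x, hx⟩
    rw [← Subgroup.orderOf_coe] at he
    by_cases hem : e ≤ m
    · obtain ⟨E', hE', hle⟩ := Sylow.exists_subgroup_card_pow_prime_le p (G := Q) (m := m)
        (hn ▸ pow_dvd_pow p (by omega)) (Subgroup.zpowers (⟨x, hx⟩ : Q)) (n := e)
        (by rw [Nat.card_zpowers, ← Subgroup.orderOf_coe, he]) hem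
      exact hcentE (E'.map Q.subtype) (Subgroup.map_subtype_le _)
        (Or.inl (by rw [Subgroup.card_map_of_injective Q.subtype_injective, hE', hd]))
        x ⟨_, hle (Subgroup.mem_zpowers _), rfl⟩
    · have hdvd4 : p = 2 ∧ orderOf x ∣ 4 := by
        rcases hxs with h | ⟨h2, h⟩
        · have h1 := orderOf_dvd_of_pow_eq_one h
          rw [he] at h1
          have h' : p ^ e ∣ p ^ 1 := by rwa [pow_one]
          have := (Nat.pow_dvd_pow_iff_le_right hp.out.one_lt).1 h'
          omega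
        · exact ⟨h2, orderOf_dvd_of_pow_eq_one h⟩
      obtain ⟨h2, h4⟩ := hdvd4
      subst h2
      have h4' : (2 : ℕ) ^ e ∣ 2 ^ 2 := by rw [← he]; norm_num; exact h4
      have he2 := (Nat.pow_dvd_pow_iff_le_right (by norm_num)).1 h4'
      have hm1 : m = 1 := by omega
      have he' : e = 2 := by omega
      exact hcentE (Subgroup.zpowers x) (Subgroup.zpowers_le.2 hx)
        (Or.inr ⟨by rw [hd, hm1, pow_one], by rw [Nat.card_zpowers, he, he']; norm_num,
          inferInstance⟩) x (Subgroup.mem_zpowers x)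
  -- `Q⟨a⟩` has a normal `p`-complement
  let H : Subgroup G := Q ⊔ Subgroup.zpowers a
  have hHn : H ≤ Subgroup.normalizer (Q : Set G) :=
    sup_le Subgroup.le_normalizer (Subgroup.zpowers_le.2 ha)
  haveI : (Q.subgroupOf H).Normal := Subgroup.normal_subgroupOf_of_le_normalizer hHn
  have hQH : IsPGroup p (Q.subgroupOf H) := hQp.comap_of_injective _ H.subtype_injective
  have hdec : ∀ h ∈ H, ∃ q ∈ Q, ∃ i : ℤ, h = q * a ^ i := fun h hh => by
    rw [← SetLike.mem_coe, Subgroup.coe_mul_of_right_le_normalizer_left Q _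
      (Subgroup.zpowers_le.2 ha)] at hh
    obtain ⟨q, hq, z, ⟨i, rfl⟩, hqz⟩ := hh
    exact ⟨q, hq, i, hqz.symm⟩
  have hidx : ¬ p ∣ (Q.subgroupOf H).index := by
    intro hdvd
    have hsur : Function.Surjective ((QuotientGroup.mk' (Q.subgroupOf H)).comp
        (Subgroup.zpowers (⟨a, Subgroup.mem_sup_right (Subgroup.mem_zpowers a)⟩ : H)).subtype) := by
      intro z
      obtain ⟨⟨h, hh⟩, rfl⟩ := QuotientGroup.mk'_surjective _ z
      obtain ⟨q, hq, i, rfl⟩ := hdec h hh
      refine ⟨⟨_, i, rfl⟩, QuotientGroup.eq.2 (Subgroup.mem_subgroupOf.2 ?_)⟩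
      have := (Subgroup.mem_normalizer_iff.1 (zpow_mem (inv_mem ha) i) q).1 hq
      simpa [mul_assoc] using this
    have h1 := Subgroup.card_dvd_of_surjective _ hsur
    rw [Nat.card_zpowers, Subgroup.orderOf_mk] at h1
    have h2 : p ∣ orderOf a := hdvd.trans h1
    exact hp.out.not_dvd_one (Nat.eq_one_of_dvd_coprimes hcp h2 dvd_rfl ▸ dvd_rfl)
  let S : Sylow p H := hQH.toSylow hidx
  have hS : (S : Subgroup H) = Q.subgroupOf H := rfl
  have hcomp : HasNormalPComplement p H := by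
    refine (Cfsg.Agent.S1946.result S).2 fun x hx hxs g hgx => ?_
    obtain ⟨q, hq, i, hgq⟩ := hdec g g.2
    refine ⟨⟨q, Subgroup.mem_sup_left hq⟩, hq, ?_⟩
    apply Subtype.ext
    have hxs' : (x : G) ^ p = 1 ∨ (p = 2 ∧ (x : G) ^ 4 = 1) := by
      rcases hxs with h | ⟨h2, h⟩
      · exact Or.inl (by simpa using congrArg Subtype.val h)
      · exact Or.inr ⟨h2, by simpa using congrArg Subtype.val h⟩
    have hc : Commute (a ^ i) (x : G) := (show Commute a (x : G) from hsmall x hx hxs').zpow_left i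
    simp only [Subgroup.coe_mul, Subgroup.coe_inv, hgq]
    calc q * a ^ i * (x : G) * (q * a ^ i)⁻¹ = q * (a ^ i * (x : G) * (a ^ i)⁻¹) * q⁻¹ := by group
      _ = q * (x : G) * q⁻¹ := by rw [hc.eq, mul_inv_cancel_right]
  obtain ⟨S', N, hN, hNS⟩ := hcomp
  haveI := hN
  have hcardN : (Nat.card N).Coprime p :=
    Nat.coprime_comm.1 ((hp.out.coprime_iff_not_dvd).2
      (CfsgLib.Transfer.not_dvd_card_normalComplement S' hNS))
  have haN : (⟨a, Subgroup.mem_sup_right (Subgroup.mem_zpowers a)⟩ : H) ∈ N :=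
    CfsgLib.Transfer.pResidual_le_normalComplement S' hNS
      (CfsgLib.Transfer.mem_pResidual_of_coprime (by rwa [Subgroup.orderOf_mk]))
  intro q hq
  have hdis : Disjoint N (Q.subgroupOf H) := by
    refine Subgroup.disjoint_of_coprime_natCard ?_
    obtain ⟨j, hj⟩ := IsPGroup.iff_card.1 hQH
    rw [hj]
    exact hcardN.pow_right j
  exact congrArg Subtype.val (Subgroup.commute_of_normal_of_disjoint N (Q.subgroupOf H) hN
    inferInstance hdis _ ⟨q, Subgroup.mem_sup_left hq⟩ haN hq).eq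

/-- A `p'`-element normalizing a subgroup of `P` moves its elements only modulo `Φ(P)`. -/
theorem Hyp.inv_mul_conj_mem_frattini (hH : Hyp P d) (hP : IsPGroup p P)
    (hmin : ∀ q : ℕ, q.Prime → q ∣ Nat.card G → p ≤ q) {m : ℕ} (hd : d = p ^ m) (hm : m ≠ 0)
    (hdP : d < Nat.card P) :
    ∀ Q : Subgroup G, Q ≤ P → ∀ a ∈ Subgroup.normalizer (Q : Set G), (orderOf a).Coprime p →
      ∀ q ∈ Q, q⁻¹ * (a * q * a⁻¹) ∈ (frattini P).map P.subtype := by
  classical
  intro Q
  induction Q using (measure fun Q : Subgroup G => Nat.card Q).wf.induction with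
  | _ Q ih =>
  intro hQP a ha hcp r hr
  have hcp1 := coprime_pred hmin (a := a)
  by_cases hbig : d < Nat.card Q
  · rw [hH.commute_of_lt hP hmin hd hm hQP hbig ha hcp r hr, mul_inv_cancel_right, inv_mul_cancel]
    exact one_mem _
  obtain ⟨n, hn⟩ := IsPGroup.iff_card.1 hP
  have hmn : m + 1 ≤ n := by
    by_contra h
    exact absurd (Nat.pow_le_pow_right hp.out.pos (show n ≤ m by omega)) (by rw [← hn, ← hd]; omega)
  by_cases hall : ∀ E : Subgroup G, E ≤ P → Nat.card E = d → Q ≤ E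
  · suffices hQΦ : ∀ x ∈ Q, x ∈ (frattini P).map P.subtype from
      mul_mem (inv_mem (hQΦ r hr)) (hQΦ _ ((Subgroup.mem_normalizer_iff.1 ha r).1 hr))
    intro x hx
    refine ⟨⟨x, hQP hx⟩, ?_, rfl⟩
    simp only [SetLike.mem_coe, frattini, Order.radical, Subgroup.mem_iInf]
    intro H hH'
    have hcH : Nat.card H * p = p ^ n := by
      have := H.card_mul_index
      rw [TwoGroups.index_eq_of_isCoatom hP hH', hn] at this
      exact this
    have hdvd : p ^ m ∣ Nat.card H := by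
      refine (Nat.dvd_of_mul_dvd_mul_right hp.out.pos ?_)
      rw [hcH, ← pow_succ]
      exact pow_dvd_pow p hmn
    obtain ⟨E', hE', -⟩ := Sylow.exists_subgroup_card_pow_prime_le p (G := H) (m := m) hdvd ⊥
      (n := 0) (by simp) (Nat.zero_le _)
    have hxE := hall ((E'.map H.subtype).map P.subtype) (Subgroup.map_subtype_le _)
      (by rw [Subgroup.card_map_of_injective P.subtype_injective,
        Subgroup.card_map_of_injective H.subtype_injective, hE', hd]) hx
    obtain ⟨y, hy, hyx⟩ := hxE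
    rw [show (⟨x, hQP hx⟩ : P) = y from Subtype.ext hyx.symm]
    exact Subgroup.map_subtype_le _ hy
  push Not at hall
  -- a subgroup of order `d` meeting `Q` in a subgroup of index `p`
  let good : Subgroup G → Prop := fun E => E ≤ P ∧ Nat.card E = d ∧ ¬ Q ≤ E
  have hne : {E | good E}.Nonempty := by
    obtain ⟨E, h1, h2, h3⟩ := hall
    exact ⟨E, h1, h2, h3⟩
  obtain ⟨E, ⟨hEP, hEd, hQE⟩, hEmax⟩ :=
    Set.exists_max_image {E | good E} (fun E : Subgroup G => Nat.card ↥(Q ⊓ E)) (Set.toFinite _) hne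
  obtain ⟨q0, hq0, hq0E⟩ := SetLike.not_le_iff_exists.1 hQE
  have hex : ∃ i, q0 ^ p ^ i ∈ E := by
    obtain ⟨i, hi⟩ := hP ⟨q0, hQP hq0⟩
    exact ⟨i, by rw [show q0 ^ p ^ i = 1 from congrArg Subtype.val hi]; exact one_mem _⟩
  obtain ⟨i, hi⟩ : ∃ i, Nat.find hex = i + 1 :=
    Nat.exists_eq_succ_of_ne_zero fun h0 => hq0E (by
      have := Nat.find_spec hex
      rwa [h0, pow_zero, pow_one] at this)
  set q := q0 ^ p ^ i with hqdef
  have hqQ : q ∈ Q := pow_mem hq0 _
  have hqE : q ∉ E := Nat.find_min hex (by omega)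
  have hqpE : q ^ p ∈ E := by
    rw [hqdef, ← pow_mul, ← pow_succ, ← hi]
    exact Nat.find_spec hex
  have hPE : P ≤ Subgroup.normalizer (E : Set G) :=
    le_normalizer_of_hsubgroup (hH E hEP (Or.inl hEd)) hEP hP
  let M : Subgroup G := E ⊔ Subgroup.zpowers q
  have hMP : M ≤ P := sup_le hEP (Subgroup.zpowers_le.2 (hQP hqQ))
  have hMp := hP.to_le hMP
  have hdecM : ∀ x ∈ M, ∃ e ∈ E, ∃ j : ℕ, j < p ∧ x = e * q ^ j := by
    intro x hx
    rw [← SetLike.mem_coe, Subgroup.coe_mul_of_right_le_normalizer_left E _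
      (Subgroup.zpowers_le.2 (hPE (hQP hqQ)))] at hx
    obtain ⟨e, he, z, ⟨j, rfl⟩, hez⟩ := hx
    have hjp := Int.emod_nonneg j (Int.natCast_ne_zero.2 hp.out.ne_zero)
    refine ⟨e * (q ^ p) ^ (j / p), mul_mem he (zpow_mem hqpE _), (j % p).toNat, ?_, ?_⟩
    · have := Int.emod_lt_of_pos j (Int.natCast_pos.2 hp.out.pos)
      omega
    · rw [← hez, mul_assoc, ← zpow_natCast q (j % p).toNat, Int.toNat_of_nonneg hjp, ← zpow_natCast q p,
        ← zpow_mul, ← zpow_add, Int.mul_ediv_add_emod]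
  have hMd : Nat.card M = p ^ (m + 1) := by
    haveI : (E.subgroupOf M).Normal :=
      Subgroup.normal_subgroupOf_of_le_normalizer (hMP.trans hPE)
    have hcard : Nat.card (M ⧸ E.subgroupOf M) = p := by
      have ho : orderOf (QuotientGroup.mk' (E.subgroupOf M)
          ⟨q, Subgroup.mem_sup_right (Subgroup.mem_zpowers q)⟩) = p := by
        refine orderOf_eq_prime ?_ ?_
        · rw [← map_pow]
          exact (QuotientGroup.eq_one_iff _).2 (Subgroup.mem_subgroupOf.2 (by simpa using hqpE))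
        · exact fun h => hqE (Subgroup.mem_subgroupOf.1 ((QuotientGroup.eq_one_iff _).1 h))
      rw [← ho, ← Nat.card_zpowers]
      refine (Nat.card_congr ?_).symm
      refine Equiv.ofBijective Subtype.val ⟨Subtype.val_injective, fun z => ?_⟩
      obtain ⟨⟨x, hx⟩, rfl⟩ := QuotientGroup.mk'_surjective _ z
      obtain ⟨e, he, j, -, rfl⟩ := hdecM x hx
      refine ⟨⟨_, Subgroup.npow_mem_zpowers _ j⟩, ?_⟩
      show (QuotientGroup.mk' _ _) ^ j = _
      rw [← map_pow]
      refine QuotientGroup.eq.2 (Subgroup.mem_subgroupOf.2 ?_)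
      have := (Subgroup.mem_normalizer_iff.1 (hPE (inv_mem (pow_mem (hQP hqQ) j))) e).1 he
      simpa [mul_assoc] using this
    have h := Subgroup.card_eq_card_quotient_mul_card_subgroup (E.subgroupOf M)
    rw [hcard, Nat.card_congr (Subgroup.subgroupOfEquivOfLe (le_sup_left : E ≤ M)).toEquiv, hEd,
      hd] at h
    rw [h, pow_succ, mul_comm]
  by_cases hQM : Q ≤ M
  · -- `Q ⊓ E` has index `p`
    set K := Q ⊓ E with hKdef
    have hKQ : K < Q := lt_of_le_of_ne inf_le_left fun h => hQE (inf_eq_left.1 h)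
    have hKn : Q ≤ Subgroup.normalizer (K : Set G) := fun x hx =>
      hH.mem_normalizer_inf hP hEP hQP (Or.inl hEd) (Subgroup.le_normalizer hx)
    have hgen : Q ≤ K ⊔ Subgroup.zpowers q := by
      intro x hx
      obtain ⟨e, he, j, -, rfl⟩ := hdecM x (hQM hx)
      refine mul_mem (Subgroup.mem_sup_left ⟨?_, he⟩)
        (Subgroup.mem_sup_right (Subgroup.npow_mem_zpowers q j))
      simpa [mul_assoc] using mul_mem hx (inv_mem (pow_mem hqQ j))
    have haK := hH.mem_normalizer_inf hP hEP hQP (Or.inl hEd) ha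
    set k := r⁻¹ * (a * r * a⁻¹) with hk
    have hkK : k ∈ K :=
      inv_mul_conj_mem inf_le_left hKn (hP.to_le hQP) hqQ hgen ha haK hcp hcp1 hr
    have hlt : Nat.card K < Nat.card Q := Set.Finite.card_lt_card (Set.toFinite _) hKQ
    have hind : ∀ j : ℕ, k⁻¹ * (a ^ j * k * (a ^ j)⁻¹) ∈ (frattini P).map P.subtype := fun j =>
      ih K hlt (inf_le_left.trans hQP) (a ^ j) (pow_mem haK j)
        (hcp.coprime_dvd_left (orderOf_pow_dvd j)) k hkK
    -- pass to the abelian group `P / Φ(P)`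
    let cls : P → P ⧸ frattini P := QuotientGroup.mk' (frattini P)
    have hmem : ∀ {x y : P}, (x : G)⁻¹ * (y : G) ∈ (frattini P).map P.subtype → cls x = cls y := by
      rintro x y ⟨w, hw, hwe⟩
      refine QuotientGroup.eq.2 ?_
      rwa [show x⁻¹ * y = w from Subtype.ext hwe.symm]
    have hcl : ∀ j : ℕ, a ^ j * r * (a ^ j)⁻¹ ∈ Q := fun j =>
      (Subgroup.mem_normalizer_iff.1 (pow_mem ha j) r).1 hr
    let kP : P := ⟨k, hQP hkK.1⟩
    let rj : ℕ → P := fun j => ⟨a ^ j * r * (a ^ j)⁻¹, hQP (hcl j)⟩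
    have hstep : ∀ j, cls (rj (j + 1)) = cls (rj j) * cls kP := by
      intro j
      have hkj : a ^ j * k * (a ^ j)⁻¹ ∈ P :=
        hQP ((Subgroup.mem_normalizer_iff.1 (pow_mem ha j) k).1 hkK.1)
      have e : rj (j + 1) = rj j * ⟨_, hkj⟩ := Subtype.ext (by
        simp only [rj, hk, Subgroup.coe_mul, pow_succ]
        group)
      rw [e, show cls kP = cls ⟨_, hkj⟩ from hmem (hind j)]
      exact map_mul _ _ _
    have hall' : ∀ j, cls (rj j) = cls (rj 0) * cls kP ^ j := by
      intro j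
      induction j with
      | zero => simp
      | succ j ihj => rw [hstep, ihj, pow_succ, mul_assoc]
    have h1 := hall' (orderOf a)
    rw [show rj (orderOf a) = rj 0 by simp [rj, pow_orderOf_eq_one], left_eq_mul] at h1
    have h2 : cls kP ^ p = 1 := by
      show QuotientGroup.mk' _ kP ^ p = 1
      rw [← map_pow]
      exact (QuotientGroup.eq_one_iff _).2 (CfsgLib.PGroups.pow_mem_frattini hP _)
    have h3 : cls kP = 1 := orderOf_eq_one_iff.1 (Nat.eq_one_of_dvd_coprimes hcp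
      (orderOf_dvd_of_pow_eq_one h1) (orderOf_dvd_of_pow_eq_one h2))
    exact ⟨kP, (QuotientGroup.eq_one_iff _).1 h3, rfl⟩
  · -- a better subgroup of order `d`
    exfalso
    have hne' : (Q.subgroupOf M) ≠ ⊤ := fun h => by
      have hMQ : M ≤ Q := Subgroup.subgroupOf_eq_top.1 h
      have := Subgroup.card_le_of_le hMQ
      rw [hMd, pow_succ, ← hd] at this
      have := hp.out.two_le
      have : d < d * p := lt_mul_right (hd ▸ pow_pos hp.out.pos m) (by omega)
      omega
    obtain ⟨H, hH', hle⟩ := (eq_top_or_exists_le_coatom (Q.subgroupOf M)).resolve_left hne'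
    have hHd : Nat.card (H.map M.subtype) = d := by
      have := H.card_mul_index
      rw [TwoGroups.index_eq_of_isCoatom hMp hH', hMd, pow_succ] at this
      rw [Subgroup.card_map_of_injective M.subtype_injective, hd]
      exact Nat.eq_of_mul_eq_mul_right hp.out.pos this
    have hgood : good (H.map M.subtype) := ⟨(Subgroup.map_subtype_le _).trans hMP, hHd,
      fun h => hQM (h.trans (Subgroup.map_subtype_le _))⟩
    have hlt : Q ⊓ E < Q ⊓ H.map M.subtype := by
      refine lt_of_le_not_ge (fun x hx => ⟨hx.1, ⟨⟨x, Subgroup.mem_sup_left hx.2⟩,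
        hle hx.1, rfl⟩⟩) fun h => hqE (h (show q ∈ Q ⊓ H.map M.subtype from
          ⟨hqQ, ⟨⟨q, Subgroup.mem_sup_right (Subgroup.mem_zpowers q)⟩, hle hqQ, rfl⟩⟩)).2
    exact absurd (hEmax _ hgood) (not_le.2 (Set.Finite.card_lt_card (Set.toFinite _) hlt))

/-- The hypothesis gives a normal `p`-complement. -/
theorem Hyp.hasNormalPComplement {S : Sylow p G} (hH : Hyp (S : Subgroup G) d)
    (hmin : ∀ q : ℕ, q.Prime → q ∣ Nat.card G → p ≤ q) {m : ℕ} (hd : d = p ^ m) (hm : m ≠ 0)
    (hdP : d < Nat.card (S : Subgroup G)) : HasNormalPComplement p G := by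
  classical
  refine CfsgLib.Transfer.hasNormalPComplement_of_inf_le_frattini S
    ((CfsgLib.Transfer.inf_pResidual_le_focalSubgroup S).trans ?_)
  set P := (S : Subgroup G)
  set F := (frattini P).map P.subtype
  have hcomm : ∀ x ∈ P, ∀ y ∈ P, x⁻¹ * (y * x * y⁻¹) ∈ F := fun x hx y hy =>
    ⟨⁅(⟨x, hx⟩ : P)⁻¹, ⟨y, hy⟩⁆, CfsgLib.PGroups.commutatorElement_mem_frattini S.2 _ _, by
      show x⁻¹ * y * x⁻¹⁻¹ * y⁻¹ = _
      group⟩
  -- every step of an Alperin chain fixes classes modulo `F`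
  have hstep : ∀ (T : Sylow p G), CfsgLib.PGroups.IsTameInter S T →
      ∀ x ∈ Subgroup.normalizer (((P ⊓ (T : Subgroup G) : Subgroup G)) : Set G),
      ∀ z ∈ P ⊓ (T : Subgroup G), z⁻¹ * (x * z * x⁻¹) ∈ F := by
    intro T hT
    set D := P ⊓ (T : Subgroup G)
    set N := Subgroup.normalizer (D : Set G)
    let Y0 : Submonoid N :=
      { carrier := {n | ∀ z ∈ D, z⁻¹ * ((n : G) * z * (n : G)⁻¹) ∈ F}
        one_mem' := fun z _ => by simp
        mul_mem' := fun {b c} hb hc z hz => by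
          have hz' : (c : G) * z * (c : G)⁻¹ ∈ D := (Subgroup.mem_normalizer_iff.1 c.2 z).1 hz
          have := mul_mem (hc z hz) (hb _ hz')
          rwa [show z⁻¹ * ((c : G) * z * (c : G)⁻¹) * (((c : G) * z * (c : G)⁻¹)⁻¹ *
              ((b : G) * ((c : G) * z * (c : G)⁻¹) * (b : G)⁻¹)) =
            z⁻¹ * (((b * c : N) : G) * z * ((b * c : N) : G)⁻¹) by
              rw [Subgroup.coe_mul]; group] at this }
    let Y : Subgroup N := Subgroup.closure (Y0 : Set N)
    have hY : ∀ n, n ∈ Y ↔ n ∈ Y0 := fun n => by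
      rw [← Subgroup.mem_toSubmonoid, Subgroup.closure_toSubmonoid_of_finite, Submonoid.closure_eq]
    have hR : (P ⊓ N).subgroupOf N ≤ Y := fun n hn =>
      (hY n).2 fun z hz => hcomm z hz.1 _ (Subgroup.mem_subgroupOf.1 hn).1
    have hres : pResidual p N ≤ Y := (Subgroup.closure_le _).2 fun n hn => (hY n).2 fun z hz =>
      hH.inv_mul_conj_mem_frattini S.2 hmin hd hm hdP D inf_le_left n n.2
        (by rwa [Subgroup.orderOf_coe]) z hz
    have htop : (P ⊓ N).subgroupOf N ⊔ pResidual p N = ⊤ :=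
      CfsgLib.Transfer.sup_pResidual_eq_top hT.1
    intro x hx z hz
    exact (hY ⟨x, hx⟩).1 ((sup_le hR hres) (htop ▸ Subgroup.mem_top _)) z hz
  have hchain : ∀ (l : List (Sylow p G × G)) (A : Set G), CfsgLib.PGroups.TameChain S A l →
      ∀ z ∈ A, z⁻¹ * ((CfsgLib.PGroups.tameProd l)⁻¹ * z * CfsgLib.PGroups.tameProd l) ∈ F := by
    intro l
    induction l with
    | nil => intro A _ z _; simp [CfsgLib.PGroups.tameProd]
    | cons Tx l ihl =>
      obtain ⟨T, x⟩ := Tx
      rintro A ⟨hA, hx, hT, hl⟩ z hz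
      have h1 := hstep T hT x⁻¹ (inv_mem hx) z (hA hz)
      have h2 := ihl _ hl _ ⟨z, hz, rfl⟩
      rw [inv_inv] at h1
      have := mul_mem h1 h2
      rwa [show z⁻¹ * (x⁻¹ * z * x) * ((x⁻¹ * z * x)⁻¹ * ((CfsgLib.PGroups.tameProd l)⁻¹ *
          (x⁻¹ * z * x) * CfsgLib.PGroups.tameProd l)) =
        z⁻¹ * ((CfsgLib.PGroups.tameProd ((T, x) :: l))⁻¹ * z *
          CfsgLib.PGroups.tameProd ((T, x) :: l)) by
        simp only [CfsgLib.PGroups.tameProd, List.map_cons, List.prod_cons]; group] at this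
  rw [Subgroup.focalSubgroup, Subgroup.closure_le]
  rintro _ ⟨hg, x, hx, u, rfl⟩
  have hz : x⁻¹ ∈ P := inv_mem hx
  have hy : u * x⁻¹ * u⁻¹ ∈ P := by
    have := mul_mem hz hg
    rwa [commutatorElement_def, show x⁻¹ * (x * u * x⁻¹ * u⁻¹) = u * x⁻¹ * u⁻¹ by group] at this
  obtain ⟨l, hl, hlu⟩ := CfsgLib.PGroups.exists_tameChain S {x⁻¹} u⁻¹
    (Set.singleton_subset_iff.2 hz) (by
      rintro _ ⟨z, rfl, rfl⟩
      rwa [inv_inv])
  have := hchain l _ hl x⁻¹ rfl
  rw [hlu, inv_inv, inv_inv] at this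
  rwa [SetLike.mem_coe, show ⁅x, u⁆ = x * (u * x⁻¹ * u⁻¹) by rw [commutatorElement_def]; group]

end CfsgLib.Transfer.HSub
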