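import Cfsg.Agent.Lib.Transfer.Fusion
import Cfsg.Agent.Lib.CoprimeAction.Basic

/-!
Nilpotent and abelian Hall subgroups: fusion and normal complements.
-/

set_option autoImplicit false

namespace CfsgLib.Transfer

open Subgroup Cfsg
open scoped commutatorElement

universe u

variable {G : Type*} [Group G] {p : ℕ}

/-- A subgroup with `N ≤ [N, G]` of a nilpotent group is trivial. -/
theorem eq_bot_of_le_commutator_top [Group.IsNilpotent G] {N : Subgroup G}
    (h : N ≤ ⁅N, (⊤ : Subgroup G)⁆) : N = ⊥ := by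
  obtain ⟨n, hn⟩ := Subgroup.nilpotent_iff_lowerCentralSeries.mp (inferInstance : Group.IsNilpotent G)
  have key : ∀ m, N ≤ (⊤ : Subgroup G).lowerCentralSeries m := by
    intro m
    induction m with
    | zero => exact le_top
    | succ m ih => exact h.trans (commutator_mono ih le_rfl)
  exact le_bot_iff.mp (hn ▸ key n)

/-- In a nilpotent group, `p'`-elements centralise `p`-subgroups normal in the group. -/
theorem le_centralizer_pResidual_of_nilpotent [Finite G] [hp : Fact p.Prime] [Group.IsNilpotent G]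
    (P : Subgroup G) [P.Normal] (hP : IsPGroup p P) :
    pResidual p G ≤ centralizer (P : Set G) := by
  rw [pResidual, closure_le]
  intro g hg
  have hAP : zpowers g ≤ normalizer (P : Set G) := normalizer_eq_top (H := P) ▸ le_top
  have hcop : (Nat.card (zpowers g)).Coprime (Nat.card P) := by
    obtain ⟨k, hk⟩ := hP.exists_card_eq
    rw [Nat.card_zpowers, hk]
    exact Nat.Coprime.pow_right k hg
  have h1 := CoprimeAction.commutator_commutator_eq hAP hcop
    (Or.inl (CoprimeAction.isSolvable_zpowers g))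
  have h2 : ⁅P, zpowers g⁆ = ⊥ :=
    eq_bot_of_le_commutator_top (h1.ge.trans (commutator_mono le_rfl le_top))
  intro x hx
  exact commutatorElement_eq_one_iff_mul_comm.mp
    (mem_bot.mp (h2 ▸ commutator_mem_commutator hx (mem_zpowers g)))

/-- A Sylow subgroup of a Hall subgroup is a Sylow subgroup. -/
theorem exists_sylow_of_hall [Finite G] [hp : Fact p.Prime] {H : Subgroup G}
    (hH : Nat.Coprime (Nat.card H) H.index) (hpH : p ∣ Nat.card H) (S : Sylow p H) :
    ∃ P : Sylow p G, (P : Subgroup G) = (S : Subgroup H).map H.subtype := by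
  refine ⟨Sylow.ofCard ((S : Subgroup H).map H.subtype) ?_, rfl⟩
  rw [card_map_of_injective H.subtype_injective, S.card_eq_multiplicity]
  congr 1
  rw [← H.card_mul_index, Nat.factorization_mul Nat.card_pos.ne' index_ne_zero_of_finite]
  have : H.index.factorization p = 0 := Nat.factorization_eq_zero_of_not_dvd fun hd =>
    hp.out.one_lt.ne' (Nat.eq_one_of_dvd_coprimes hH hpH hd)
  simp [this]

/-- A nilpotent Hall subgroup with no fusion has a normal complement. -/
theorem normalComplement_of_no_fusion [Finite G] (H : Subgroup G) (hH : Group.IsNilpotent H)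
    (hHall : Nat.Coprime (Nat.card H) H.index)
    (h : ∀ x ∈ H, ∀ y ∈ H, (∃ g : G, g * x * g⁻¹ = y) → ∃ w ∈ H, w * x * w⁻¹ = y) :
    ∃ N : Subgroup G, N.Normal ∧ N.IsComplement' H := by
  classical
  have key : ∀ q ∈ (Nat.card H).primeFactors, ¬ q ∣ Nat.card (pResidual q G) := by
    intro q hq
    obtain ⟨hqp, hqd, -⟩ := Nat.mem_primeFactors.mp hq
    have : Fact q.Prime := ⟨hqp⟩
    let S : Sylow q H := default
    have hSn : (S : Subgroup H).Normal := S.normal_of_normalizerCondition Group.normalizerCondition_of_isNilpotent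
    obtain ⟨P, hP⟩ := exists_sylow_of_hall hHall hqd S
    have hPH : (P : Subgroup G) ≤ H := hP ▸ map_subtype_le _
    have hctrl : HasNormalPComplement q G := by
      refine hasNormalPComplement_of_control P fun x hx u hy => ?_
      obtain ⟨w, hw, hwe⟩ := h x (hPH hx) _ (hPH hy) ⟨u, rfl⟩
      obtain ⟨s, hs, k, hk, hsk⟩ := exists_mul_eq S (⟨w, hw⟩ : H)
      have hxS : (⟨x, hPH hx⟩ : H) ∈ (S : Subgroup H) := by
        obtain ⟨s', hs', hs''⟩ := (SetLike.ext_iff.mp hP x).mp hx
        have : s' = (⟨x, hPH hx⟩ : H) := Subtype.ext hs''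
        exact this ▸ hs'
      have hc := le_centralizer_pResidual_of_nilpotent (S : Subgroup H) S.2 hk _ hxS
      refine ⟨s, (SetLike.ext_iff.mp hP _).mpr ⟨s, hs, rfl⟩, ?_⟩
      rw [← hwe]
      have hwv : w = (s : G) * k := congrArg Subtype.val hsk.symm
      have hkx : (k : G) * x * (k : G)⁻¹ = x :=
        mul_inv_eq_iff_eq_mul.mpr (congrArg Subtype.val hc).symm
      rw [hwv]
      calc (s : G) * x * (s : G)⁻¹ = s * ((k : G) * x * (k : G)⁻¹) * (s : G)⁻¹ := by rw [hkx]
        _ = _ := by group
    obtain ⟨R, C, hCn, hC⟩ := hctrl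
    exact fun hd => not_dvd_card_normalComplement R hC
      (hd.trans (card_dvd_of_le (pResidual_le_normalComplement R hC)))
  refine ⟨⨅ q ∈ (Nat.card H).primeFactors, pResidual q G,
    normal_iInf_normal fun q => normal_iInf_normal fun _ => pResidual_normal, ?_⟩
  set N : Subgroup G := ⨅ q ∈ (Nat.card H).primeFactors, pResidual q G with hN
  have hNn : N.Normal := normal_iInf_normal fun q => normal_iInf_normal fun _ => pResidual_normal
  have hcopNH : Nat.Coprime (Nat.card N) (Nat.card H) := by
    refine Nat.coprime_of_dvd fun q hq hdN hdH => ?_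
    have hmem : q ∈ (Nat.card H).primeFactors := Nat.mem_primeFactors.mpr ⟨hq, hdH, Nat.card_pos.ne'⟩
    exact key q hmem (hdN.trans (card_dvd_of_le (iInf₂_le q hmem)))
  refine isComplement'_of_disjoint_and_mul_eq_univ (disjoint_of_coprime_natCard hcopNH) ?_
  rw [← normal_mul]
  suffices N ⊔ H = ⊤ by rw [this, coe_top]
  rw [← index_eq_one]
  by_contra hne
  obtain ⟨r, hr, hrd⟩ := Nat.exists_prime_and_dvd hne
  have hrH : r ∣ H.index := hrd.trans (index_dvd_of_le le_sup_right)
  have hrN : r ∣ N.index := hrd.trans (index_dvd_of_le le_sup_left)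
  -- every prime dividing the index of `N` divides the order of `H`
  have : Fact r.Prime := ⟨hr⟩
  have hN' : N.index ∣ ∏ q ∈ (Nat.card H).primeFactors, (pResidual q G).index := by
    rw [hN]
    generalize (Nat.card H).primeFactors = t
    induction t using Finset.induction_on with
    | empty => simp
    | @insert a t ha ih =>
      rw [Finset.iInf_insert, Finset.prod_insert ha]
      have han : (pResidual a G).Normal := pResidual_normal
      rw [← relIndex_mul_index (inf_le_right (a := pResidual a G)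
        (b := ⨅ q ∈ t, pResidual q G)), inf_relIndex_right]
      exact mul_dvd_mul (relIndex_dvd_index_of_normal _ _) ih
  obtain ⟨q, hq, hrq⟩ := (hr.prime.dvd_finsetProd_iff _).mp (hrN.trans hN')
  obtain ⟨hqp, hqd, -⟩ := Nat.mem_primeFactors.mp hq
  have : Fact q.Prime := ⟨hqp⟩
  obtain ⟨k, hk⟩ := index_pResidual_eq_pow (G := G) (p := q)
  rw [hk] at hrq
  have : r = q := (Nat.prime_dvd_prime_iff_eq hr hqp).mp (hr.dvd_of_dvd_pow hrq)
  exact hr.one_lt.ne' (Nat.eq_one_of_dvd_coprimes hHall (this ▸ hqd) hrH)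

/-- Abelian Hall subgroups of the same order are conjugate. -/
theorem abelian_hall_conj : ∀ (n : ℕ) {G : Type u} [Group G] [Finite G], Nat.card G ≤ n →
    ∀ H K : Subgroup G, IsMulCommutative H → IsMulCommutative K →
      Nat.card H = Nat.card K → Nat.Coprime (Nat.card H) H.index →
      ∃ g : G, K.map (MulAut.conj g).toMonoidHom = H := by
  intro n
  induction n using Nat.strong_induction_on with
  | _ n ih =>
    intro G _ _ hn H K hH hK hHK hHall
    by_cases h1 : Nat.card H = 1
    · have h2 : Nat.card K = 1 := hHK ▸ h1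
      exact ⟨1, by rw [card_eq_one.mp h1, card_eq_one.mp h2, Subgroup.map_bot]⟩
    obtain ⟨q, hq, hqd⟩ := Nat.exists_prime_and_dvd h1
    have : Fact q.Prime := ⟨hq⟩
    have hKidx : K.index = H.index :=
      Nat.eq_of_mul_eq_mul_left Nat.card_pos
        (by rw [K.card_mul_index, ← hHK, H.card_mul_index])
    obtain ⟨P, hP⟩ := exists_sylow_of_hall hHall hqd (default : Sylow q H)
    obtain ⟨R, hR⟩ := exists_sylow_of_hall (hKidx ▸ hHK ▸ hHall) (hHK ▸ hqd) (default : Sylow q K)
    obtain ⟨g, hg⟩ := MulAction.exists_smul_eq G R P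
    set K₁ := K.map (MulAut.conj g).toMonoidHom with hK₁
    have hPH : (P : Subgroup G) ≤ H := hP ▸ map_subtype_le _
    have hPK : (P : Subgroup G) ≤ K₁ := by
      rw [← hg]
      rintro _ ⟨x, hx, rfl⟩
      exact ⟨x, (hR ▸ map_subtype_le _ : (R : Subgroup G) ≤ K) hx, rfl⟩
    set C := centralizer ((P : Subgroup G) : Set G) with hC
    have hcomm : ∀ {A : Subgroup G}, IsMulCommutative A → (P : Subgroup G) ≤ A → A ≤ C :=
      fun {A} hA hPA a ha x hx =>
        congrArg Subtype.val (hA.is_comm.comm (⟨x, hPA hx⟩ : A) ⟨a, ha⟩)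
    have hHC : H ≤ C := hcomm hH hPH
    have hK₁c : IsMulCommutative K₁ := inferInstance
    have hKC : K₁ ≤ C := hcomm hK₁c hPK
    have hPC : (P : Subgroup G) ≤ C := hPH.trans hHC
    set P₀ := (P : Subgroup G).subgroupOf C with hP₀
    have hP₀n : P₀.Normal := ⟨fun x hx c => by
      have : (x : G) * c = c * x := c.2 x hx
      change (c : G) * x * (c : G)⁻¹ ∈ (P : Subgroup G)
      rwa [← this, mul_inv_cancel_right]⟩
    set π := QuotientGroup.mk' P₀ with hπ
    have hcard : ∀ {A : Subgroup G}, (P : Subgroup G) ≤ A → A ≤ C →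
        ((A.subgroupOf C).map π).comap π = A.subgroupOf C := fun {A} hPA hAC => by
      rw [comap_map_eq, QuotientGroup.ker_mk', sup_eq_left]
      exact comap_mono hPA
    have hidx : ∀ {A : Subgroup G}, (P : Subgroup G) ≤ A → A ≤ C →
        ((A.subgroupOf C).map π).index = A.relIndex C := fun {A} hPA hAC => by
      rw [← index_comap_of_surjective _ (QuotientGroup.mk'_surjective P₀), ← hπ, hcard hPA hAC]
      rfl
    have hcardK₁ : Nat.card K₁ = Nat.card K := card_map_of_injective (MulEquiv.injective _)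
    have hcard2 : Nat.card ((H.subgroupOf C).map π) = Nat.card ((K₁.subgroupOf C).map π) := by
      refine Nat.eq_of_mul_eq_mul_right (Nat.pos_of_ne_zero
        (index_ne_zero_of_finite (H := (H.subgroupOf C).map π))) ?_
      rw [card_mul_index]
      have : ((H.subgroupOf C).map π).index = ((K₁.subgroupOf C).map π).index := by
        rw [hidx hPH hHC, hidx hPK hKC]
        refine Nat.eq_of_mul_eq_mul_left (Nat.card_pos (α := H)) ?_
        have e1 : Nat.card H * H.relIndex C = Nat.card C := by
          rw [← Nat.card_congr (subgroupOfEquivOfLe hHC).toEquiv]; exact card_mul_index _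
        have e2 : Nat.card K₁ * K₁.relIndex C = Nat.card C := by
          rw [← Nat.card_congr (subgroupOfEquivOfLe hKC).toEquiv]; exact card_mul_index _
        rw [e1, hHK, ← hcardK₁, e2]
      rw [this, card_mul_index]
    have hlt : Nat.card (C ⧸ P₀) < n := by
      refine lt_of_lt_of_le ?_ ((card_le_card_group C).trans hn)
      have hP1 : 1 < P₀.index * Nat.card P₀ → True := fun _ => trivial
      have h2 : 1 < Nat.card P₀ := by
        rw [Nat.card_congr (subgroupOfEquivOfLe hPC).toEquiv, hP,
          card_map_of_injective H.subtype_injective]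
        obtain ⟨k, hk⟩ := (default : Sylow q H).2.exists_card_eq
        exact lt_of_lt_of_le hq.one_lt
          (Nat.le_of_dvd Nat.card_pos ((default : Sylow q H).dvd_card_of_dvd_card hqd))
      calc Nat.card (C ⧸ P₀) = P₀.index := rfl
        _ < Nat.card P₀ * P₀.index :=
          lt_mul_left (Nat.pos_of_ne_zero index_ne_zero_of_finite) h2
        _ = Nat.card C := card_mul_index P₀
    have hcommQ : ∀ {A : Subgroup G}, IsMulCommutative A →
        IsMulCommutative ((A.subgroupOf C).map π) := fun {A} hA => ⟨⟨fun a b => by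
      obtain ⟨_, a, ha, rfl⟩ := a
      obtain ⟨_, b, hb, rfl⟩ := b
      refine Subtype.ext ?_
      change π a * π b = π b * π a
      rw [← map_mul, ← map_mul]
      exact congrArg π (Subtype.ext
        ((congrArg Subtype.val (hA.is_comm.comm (⟨a.1, ha⟩ : A) ⟨b.1, hb⟩) :
          (a.1 : G) * b.1 = b.1 * a.1)))⟩⟩
    set A := (H.subgroupOf C).map π with hA
    set B := (K₁.subgroupOf C).map π with hB
    have hAc : IsMulCommutative A := hcommQ hH
    have hBc : IsMulCommutative B := hcommQ hK₁c
    have hAh : Nat.Coprime (Nat.card A) A.index := by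
      refine Nat.Coprime.coprime_dvd_left (((H.subgroupOf C).card_map_dvd π).trans
        (Nat.card_congr (subgroupOfEquivOfLe hHC).toEquiv).dvd) ?_
      rw [hA, hidx hPH hHC]
      exact Nat.Coprime.coprime_dvd_right (relIndex_dvd_index_of_le hHC) hHall
    obtain ⟨c, hc⟩ := ih (Nat.card (C ⧸ P₀)) hlt (le_refl (Nat.card (C ⧸ P₀))) A B hAc hBc hcard2 hAh
    obtain ⟨c, rfl⟩ := QuotientGroup.mk'_surjective P₀ c
    refine ⟨c * g, ?_⟩
    have hle : K.map (MulAut.conj ((c : G) * g)).toMonoidHom ≤ H := by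
      rintro _ ⟨k, hk, rfl⟩
      have hk1 : g * k * g⁻¹ ∈ K₁ := ⟨k, hk, rfl⟩
      have h3 : π c * π ⟨_, hKC hk1⟩ * (π c)⁻¹ ∈ (H.subgroupOf C).map π := by
        change _ ∈ A
        rw [← hc]; exact ⟨_, mem_map_of_mem π (show (⟨_, hKC hk1⟩ : C) ∈ K₁.subgroupOf C from hk1), rfl⟩
      have h4 : c * ⟨_, hKC hk1⟩ * c⁻¹ ∈ H.subgroupOf C := by
        rw [← hcard hPH hHC, mem_comap]; simpa using h3
      have h5 : (c : G) * (g * k * g⁻¹) * (c : G)⁻¹ ∈ H := h4
      convert h5 using 1
      simp [mul_assoc]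
    exact eq_of_le_of_card_ge hle (by
      rw [card_map_of_injective (MulEquiv.injective _), hHK])

/-- A Hall subgroup central in its normalizer has a normal complement. -/
theorem normalComplement_of_normalizer_le_centralizer [Finite G] (H : Subgroup G)
    (hHall : Nat.Coprime (Nat.card H) H.index)
    (h : normalizer (H : Set G) ≤ centralizer (H : Set G)) :
    ∃ N : Subgroup G, N.Normal ∧ N.IsComplement' H := by
  have hH : IsMulCommutative H :=
    ⟨⟨fun a b => Subtype.ext (h (le_normalizer b.2) a a.2)⟩⟩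
  refine normalComplement_of_no_fusion H
    (by open scoped IsMulCommutative in exact CommGroup.isNilpotent) hHall fun x hx y hy hg => ?_
  obtain ⟨g, rfl⟩ := hg
  set y := g * x * g⁻¹ with hyd
  set C := centralizer ({y} : Set G) with hC
  set H₂ := H.map (MulAut.conj g).toMonoidHom with hH₂
  have hHC : H ≤ C := fun a ha => mem_centralizer_singleton_iff.mpr
    (congrArg Subtype.val (hH.is_comm.comm (⟨a, ha⟩ : H) ⟨y, hy⟩))
  have hH₂C : H₂ ≤ C := by
    rintro _ ⟨a, ha, rfl⟩
    refine mem_centralizer_singleton_iff.mpr ?_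
    have hax : a * x = x * a := congrArg Subtype.val (hH.is_comm.comm (⟨a, ha⟩ : H) ⟨x, hx⟩)
    change g * a * g⁻¹ * (g * x * g⁻¹) = g * x * g⁻¹ * (g * a * g⁻¹)
    calc _ = g * (a * x) * g⁻¹ := by group
      _ = g * (x * a) * g⁻¹ := by rw [hax]
      _ = _ := by group
  have hcard : Nat.card (H.subgroupOf C) = Nat.card (H₂.subgroupOf C) := by
    rw [Nat.card_congr (subgroupOfEquivOfLe hHC).toEquiv,
      Nat.card_congr (subgroupOfEquivOfLe hH₂C).toEquiv, hH₂,
      card_map_of_injective (MulEquiv.injective _)]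
  obtain ⟨c, hc⟩ := abelian_hall_conj _ (G := C) le_rfl (H.subgroupOf C) (H₂.subgroupOf C)
    (by open scoped IsMulCommutative in
        exact ⟨⟨fun a b => Subtype.ext (Subtype.ext
          ((congrArg Subtype.val (hH.is_comm.comm (⟨a.1.1, a.2⟩ : H) ⟨b.1.1, b.2⟩) :
            (a.1.1 : G) * b.1.1 = b.1.1 * a.1.1)))⟩⟩)
    inferInstance hcard (by
      rw [Nat.card_congr (subgroupOfEquivOfLe hHC).toEquiv]
      exact Nat.Coprime.coprime_dvd_right (relIndex_dvd_index_of_le hHC) hHall)
  have hN : (c : G) * g ∈ normalizer (H : Set G) := by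
    have heq : H.map (MulAut.conj ((c : G) * g)).toMonoidHom = H := by
      refine eq_of_le_of_card_ge ?_ (card_map_of_injective (MulEquiv.injective _)).ge
      rintro _ ⟨a, ha, rfl⟩
      have ha2 : g * a * g⁻¹ ∈ H₂ := ⟨a, ha, rfl⟩
      have : c * (⟨_, hH₂C ha2⟩ : C) * c⁻¹ ∈ H.subgroupOf C := by
        rw [← hc]; exact ⟨_, ha2, rfl⟩
      have h9 : (c : G) * (g * a * g⁻¹) * (c : G)⁻¹ ∈ H := this
      change ((c : G) * g) * a * ((c : G) * g)⁻¹ ∈ H
      rwa [show ((c : G) * g) * a * ((c : G) * g)⁻¹ = (c : G) * (g * a * g⁻¹) * (c : G)⁻¹ by group]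
    refine mem_normalizer_iff.mpr fun z => ?_
    conv_rhs => rw [← heq]
    exact (mem_map_iff_mem (MulAut.conj ((c : G) * g)).injective).symm
  refine ⟨1, one_mem H, ?_⟩
  have h6 : x * ((c : G) * g) = (c : G) * g * x := h hN x hx
  have h7 : (c : G) * y = y * (c : G) := mem_centralizer_singleton_iff.mp c.2
  rw [one_mul, inv_one, mul_one]
  calc x = x * ((c : G) * g) * ((c : G) * g)⁻¹ := by group
    _ = (c : G) * g * x * ((c : G) * g)⁻¹ := by rw [h6]
    _ = (c : G) * y * (c : G)⁻¹ := by rw [hyd]; group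
    _ = y := by rw [h7]; group

end CfsgLib.Transfer
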